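import Mathlib
import Cfsg.Agent.H70.OutCount
import Cfsg.Agent.Lib.FieldAutCard
import Cfsg.Agent.S1035
import Cfsg.Agent.S1098
import Cfsg.Agent.S1099
set_option linter.all false

/-!
# The order of the outer automorphism groups of `G₂(q)` and `F₄(q)`
-/

set_option autoImplicit false

namespace Cfsg.Agent.H69.OutGF

open scoped Pointwise
open Cfsg Cfsg.Lie Cfsg.Agent.ChevalleyStructure Cfsg.Agent.ChevalleyStructure.Elts
  Cfsg.Agent.H70.AutFix Cfsg.Agent.H70.ChevTab Cfsg.Agent.H70.ChevFix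
  Cfsg.Agent.H70.ChevField Cfsg.Agent.H70.OutCount

universe u

/-! ### groups of order at most two -/

theorem card_two {G : Type*} [Group G] {H : Subgroup G} {s : G} (hs : s ≠ 1) (h : ∀ x ∈ H, x = 1 ∨ x = s)
    (hm : s ∈ H) : Nat.card ↥H = 2 := by
  rw [Nat.card_eq_two_iff]
  refine ⟨1, ⟨s, hm⟩, fun e => hs (congrArg Subtype.val e).symm, ?_⟩
  ext x
  simp only [Set.mem_insert_iff, Set.mem_singleton_iff, Set.mem_univ, iff_true]
  rcases h x.1 x.2 with h1 | h1
  · exact Or.inl (Subtype.ext h1)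
  · exact Or.inr (Subtype.ext h1)

theorem card_one {G : Type*} [Group G] {H : Subgroup G} {s : G} (h : ∀ x ∈ H, x = 1 ∨ x = s)
    (hm : s ∉ H) : Nat.card ↥H = 1 := by
  have h1 : H = ⊥ := by
    rw [eq_bot_iff]
    intro x hx
    rcases h x hx with h1 | h1
    · rw [h1]; exact one_mem _
    · rw [h1] at hx; exact absurd hx hm
  rw [h1]
  exact Subgroup.card_bot

/-! ### automorphisms given on the root elements -/

section

variable {D : ChevalleyDatum} (hD : InList D) {F : Type u} [Field F]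

/-- an automorphism with `φ x_r(t) = x_s(f t)`, `f` onto, maps `X_r` onto `X_s` -/
theorem smul_XX {φ : MulAut ↥(D.group F)} {r s : ℕ} {f : F → F} (hf : Function.Surjective f)
    (h : ∀ t, φ (xe hD r t) = xe hD s (f t)) : φ • XX D F r = XX D F s := by
  ext g
  rw [mem_smul_iff, mem_XX hD, mem_XX hD]
  constructor
  · rintro ⟨t, ht⟩
    refine ⟨f t, ?_⟩
    rw [← h, ← ht, MulAut.apply_inv_self]
  · rintro ⟨t, rfl⟩
    obtain ⟨a, rfl⟩ := hf t
    refine ⟨a, ?_⟩
    rw [← h, MulAut.inv_apply_self]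

theorem coe_coe_xe (r : ℕ) (t : F) : (((xe hD r t : ↥(D.group F)) : GL D.Idx F) : Matrix D.Idx D.Idx F) = D.x F r t :=
  coe_xG hD r t

theorem eq_xe {g : ↥(D.group F)} {r : ℕ} {t : F} (h : ((g : GL D.Idx F) : Matrix D.Idx D.Idx F) = D.x F r t) :
    g = xe hD r t := by
  apply Subtype.ext
  apply Units.ext
  rw [h, coe_coe_xe]

theorem pow_surjective {F : Type*} [Field F] {n : ℕ} (hperf : ∀ x : F, ∃ y : F, y ^ n = x) :
    Function.Surjective (fun t : F => t ^ n) := hperf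

end

theorem hperf {F : Type*} [Field F] [Finite F] (p : ℕ) [Fact p.Prime] [CharP F p] (x : F) : ∃ y : F, y ^ p = x := by
  have h1 : Function.Injective (frobenius F p) := frobenius_inj F p
  obtain ⟨y, hy⟩ := Finite.injective_iff_surjective.1 h1 x
  exact ⟨y, by rw [← hy, frobenius_def]⟩

/-! ### `G₂` -/

section G2

variable {F : Type u} [Field F]

theorem hG2 : InList chevG2 := by simp [InList]

theorem rank_G2 : chevG2.rank = 2 := rfl

theorem tab_G2 : chevG2.simple 0 = 7 ∧ chevG2.simple 1 = 6 ∧ chevG2.neg 7 = 4 ∧ chevG2.neg 6 = 5 := by decide +kernel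

theorem cartan_G2 : chevG2.cartan 0 (chevG2.simple 1) = -3 ∧ chevG2.cartan 1 (chevG2.simple 0) = -1 := by
  decide +kernel

/-- the flip of the diagram -/
def flip2 : Equiv.Perm (Fin chevG2.rank) := Equiv.swap (0 : Fin 2) (1 : Fin 2)

theorem perm2 : ∀ π : Equiv.Perm (Fin 2), π = 1 ∨ π = Equiv.swap 0 1 := by decide

theorem flip2_ne : flip2 ≠ 1 := by
  have : (Equiv.swap (0 : Fin 2) (1 : Fin 2)) ≠ 1 := by decide
  exact this

theorem flip2_mem [Finite F] [CharP F 3] : flip2 ∈ realised hG2 F := by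
  have : Fact (Nat.Prime 3) := ⟨Nat.prime_three⟩
  obtain ⟨α, hα⟩ := Cfsg.Agent.S1099.result (K := F) (hperf 3)
  rw [mem_realised]
  have h0 : (flip2 (0 : Fin 2) : ℕ) = 1 := rfl
  have h1 : (flip2 (1 : Fin 2) : ℕ) = 0 := rfl
  obtain ⟨t0, t1, t2, t3⟩ := tab_G2
  have ha : ∀ t, α (xe hG2 7 t) = xe hG2 6 (t ^ 3) := fun t =>
    eq_xe hG2 ((hα (xe hG2 7 t) t).1 (coe_coe_xe hG2 7 t))
  have hb : ∀ t, α (xe hG2 6 t) = xe hG2 7 t := fun t =>
    eq_xe hG2 ((hα (xe hG2 6 t) t).2.1 (coe_coe_xe hG2 6 t))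
  have hma : ∀ t, α (xe hG2 4 t) = xe hG2 5 (t ^ 3) := fun t =>
    eq_xe hG2 ((hα (xe hG2 4 t) t).2.2.1 (coe_coe_xe hG2 4 t))
  have hmb : ∀ t, α (xe hG2 5 t) = xe hG2 4 t := fun t =>
    eq_xe hG2 ((hα (xe hG2 5 t) t).2.2.2 (coe_coe_xe hG2 5 t))
  have hcube : Function.Surjective (fun t : F => t ^ 3) := hperf 3
  refine ⟨α, ⟨fun i => ?_, fun i => ?_⟩⟩
  · have hi : i = (0 : Fin 2) ∨ i = (1 : Fin 2) := by
      have : ∀ j : Fin 2, j = 0 ∨ j = 1 := by decide
      exact this i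
    rcases hi with rfl | rfl
    · rw [h0]
      show α • XX chevG2 F (chevG2.simple 0) = _
      rw [t0, t1]
      exact smul_XX hG2 (φ := α) hcube ha
    · rw [h1]
      show α • XX chevG2 F (chevG2.simple 1) = _
      rw [t0, t1]
      exact smul_XX hG2 (φ := α) (f := id) Function.surjective_id hb
  · have hi : i = (0 : Fin 2) ∨ i = (1 : Fin 2) := by
      have : ∀ j : Fin 2, j = 0 ∨ j = 1 := by decide
      exact this i
    rcases hi with rfl | rfl
    · rw [h0]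
      show α • XX chevG2 F (chevG2.neg (chevG2.simple 0)) = _
      rw [t0, t1, t2, t3]
      exact smul_XX hG2 (φ := α) hcube hma
    · rw [h1]
      show α • XX chevG2 F (chevG2.neg (chevG2.simple 1)) = _
      rw [t0, t1, t2, t3]
      exact smul_XX hG2 (φ := α) (f := id) Function.surjective_id hmb

theorem flip2_not_mem [Finite F] (h3 : (3 : F) ≠ 0) (hq : 3 ≤ Nat.card F) : flip2 ∉ realised hG2 F := by
  rintro ⟨φ, hφ⟩
  obtain ⟨c, σ, -, -, -, e⟩ := exists_field hG2 hφ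
  have h0 : ((flip2 (0 : Fin 2) : Fin 2) : ℕ) = 1 := rfl
  have h1 : ((flip2 (1 : Fin 2) : Fin 2) : ℕ) = 0 := rfl
  have e1 : ∀ a : F, a ≠ 0 → (σ (1 : Fin 2) a) ^ 3 = σ (0 : Fin 2) a := by
    intro a ha
    have h2 := e (0 : Fin 2) (1 : Fin 2) a ha
    have h3 : (σ (1 : Fin 2)) (a ^ (chevG2.cartan 0 (chevG2.simple 1))) =
        (σ (0 : Fin 2) a) ^ (chevG2.cartan 1 (chevG2.simple 0)) := h2
    rw [cartan_G2.1, cartan_G2.2, zpow_neg_one, zpow_neg, map_inv₀, inv_inj] at h3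
    rw [← h3, show (3 : ℤ) = ((3 : ℕ) : ℤ) from rfl, zpow_natCast, map_pow]
  -- `a ↦ a ^ 3` is additive
  have e2 : ∀ b : F, b ≠ 0 → b + 1 ≠ 0 → 3 * (b * (b + 1)) = 0 := by
    intro b hb hb1
    obtain ⟨a, rfl⟩ := (σ (1 : Fin 2)).surjective b
    have ha : a ≠ 0 := fun h => hb (by rw [h, map_zero])
    have ha1 : a + 1 ≠ 0 := fun h => hb1 (by rw [← map_one (σ (1 : Fin 2)), ← map_add, h, map_zero])
    have h2 := e1 (a + 1) ha1
    rw [map_add, map_add, map_one, map_one, ← e1 a ha] at h2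
    linear_combination h2
  have e3 : ∀ b : F, b = 0 ∨ b = -1 := by
    intro b
    by_contra hcon
    push Not at hcon
    have hb1 : b + 1 ≠ 0 := fun h => hcon.2 (eq_neg_of_add_eq_zero_left h)
    exact mul_ne_zero h3 (mul_ne_zero hcon.1 hb1) (e2 b hcon.1 hb1)
  have h4 : Nat.card F ≤ 2 := by
    have h5 : Function.Surjective (fun i : Bool => if i then (0 : F) else -1) := by
      intro b
      rcases e3 b with rfl | rfl
      · exact ⟨true, rfl⟩
      · exact ⟨false, rfl⟩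
    have h6 := Nat.card_le_card_of_surjective _ h5
    rwa [Nat.card_eq_fintype_card (α := Bool), Fintype.card_bool] at h6
  omega

theorem card_diag_G2 [Fintype F] : Nat.card (chevG2.diagonalSubgroup F) = (Nat.card F - 1) ^ 2 := by
  have h1 := Cfsg.Agent.S1035.result (F := F) (q := Fintype.card F) rfl (chevG2, 1) (by simp)
  have h2 : 1 * Nat.card (chevG2.diagonalSubgroup F) = (Fintype.card F - 1) ^ 2 := h1
  rw [one_mul] at h2
  rw [h2, Nat.card_eq_fintype_card]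

theorem card_out_G2 [Fintype F] (hq : 3 ≤ Nat.card F) :
    Nat.card (Cfsg.Out ↥(chevG2.group F)) = Nat.card ↥(realised hG2 F) * Nat.card (F ≃+* F) := by
  have h1 := card_out_mul hG2 F
  have h2 : Nat.card (Cfsg.Out ↥(chevG2.group F)) * (Nat.card F - 1) ^ 2 =
      Nat.card ↥(realised hG2 F) * ((Nat.card F - 1) ^ 2 * Nat.card (F ≃+* F)) := by
    rw [card_diag_G2] at h1
    exact h1
  have h3 : 0 < (Nat.card F - 1) ^ 2 := pow_pos (by omega) 2
  apply Nat.eq_of_mul_eq_mul_right h3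
  rw [h2]
  ring

end G2

/-! ### `F₄` -/

section F4

variable {F : Type u} [Field F]

theorem hF4 : InList chevF4 := by simp [InList]

/-- the flip of the diagram -/
def flip4' : Equiv.Perm (Fin 4) := Equiv.swap 0 3 * Equiv.swap 1 2

/-- the flip of the diagram -/
def flip4 : Equiv.Perm (Fin chevF4.rank) := flip4'

theorem flip4_ne : flip4 ≠ 1 := by
  have : flip4' ≠ 1 := by decide
  exact this

theorem cartan_F4 : chevF4.cartan 1 (chevF4.simple 2) = -2 ∧ chevF4.cartan 2 (chevF4.simple 1) = -1 := by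
  decide +kernel

theorem perm4 : ∀ π : Equiv.Perm (Fin 4), (∀ i j : Fin 4, i ≠ j →
    (chevF4.cartan (π i) (chevF4.simple (π j)) = 0 ↔ chevF4.cartan i (chevF4.simple j) = 0)) →
    π = 1 ∨ π = flip4' := by decide +kernel

theorem flip_vals : ∀ i : Fin 4, ((flip4' i : Fin 4) : ℕ) = ([(3, 2), (2, 2), (1, 1), (0, 1)].getD i (0, 1)).1 := by
  decide

theorem flip4_mem [Finite F] [CharP F 2] : flip4 ∈ realised hF4 F := by
  have : Fact (Nat.Prime 2) := ⟨Nat.prime_two⟩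
  obtain ⟨α, hα⟩ := Cfsg.Agent.S1098.result (K := F) (hperf 2) (chevF4, [(3, 2), (2, 2), (1, 1), (0, 1)]) (by simp)
  rw [mem_realised]
  have hs : ∀ i : Fin 4, Function.Surjective
      (fun t : F => t ^ ([(3, 2), (2, 2), (1, 1), (0, 1)].getD (i : ℕ) (0, 1)).2) := by
    intro i
    have h1 : ([(3, 2), (2, 2), (1, 1), (0, 1)].getD (i : ℕ) (0, 1)).2 = 1 ∨
        ([(3, 2), (2, 2), (1, 1), (0, 1)].getD (i : ℕ) (0, 1)).2 = 2 := by
      revert i; decide
    rcases h1 with h1 | h1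
    · rw [h1]
      intro x
      exact ⟨x, pow_one x⟩
    · rw [h1]
      exact hperf 2
  refine ⟨α, ⟨fun i => ?_, fun i => ?_⟩⟩
  · have e : ((flip4 i : Fin chevF4.rank) : ℕ) = ([(3, 2), (2, 2), (1, 1), (0, 1)].getD (i : ℕ) (0, 1)).1 := flip_vals i
    rw [e]
    refine smul_XX hF4 (φ := α) (hs i) fun t => eq_xe hF4 ?_
    exact ((hα (xe hF4 (chevF4.simple i) t) i t i.2).1 (coe_coe_xe hF4 _ t))
  · have e : ((flip4 i : Fin chevF4.rank) : ℕ) = ([(3, 2), (2, 2), (1, 1), (0, 1)].getD (i : ℕ) (0, 1)).1 := flip_vals i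
    rw [e]
    refine smul_XX hF4 (φ := α) (hs i) fun t => eq_xe hF4 ?_
    exact ((hα (xe hF4 (chevF4.neg (chevF4.simple i)) t) i t i.2).2 (coe_coe_xe hF4 _ t))

theorem flip4_not_mem (h2 : (2 : F) ≠ 0) : flip4 ∉ realised hF4 F := by
  rintro ⟨φ, hφ⟩
  obtain ⟨c, σ, -, -, -, e⟩ := exists_field hF4 hφ
  have e1 : ∀ a : F, a ≠ 0 → (σ (2 : Fin 4) a) ^ 2 = σ (1 : Fin 4) a := by
    intro a ha
    have h2 := e (1 : Fin 4) (2 : Fin 4) a ha
    have h3 : (σ (2 : Fin 4)) (a ^ (chevF4.cartan 1 (chevF4.simple 2))) =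
        (σ (1 : Fin 4) a) ^ (chevF4.cartan 2 (chevF4.simple 1)) := h2
    rw [cartan_F4.1, cartan_F4.2, zpow_neg_one, zpow_neg, map_inv₀, inv_inj] at h3
    rw [← h3, show (2 : ℤ) = ((2 : ℕ) : ℤ) from rfl, zpow_natCast, map_pow]
  have h3 := e1 1 one_ne_zero
  have h4 := e1 2 h2
  have h5 : (4 : F) = 2 := by
    have e2 : (σ (2 : Fin 4)) (2 : F) = 2 := map_ofNat _ 2
    have e3 : (σ (1 : Fin 4)) (2 : F) = 2 := map_ofNat _ 2
    rw [e2, e3] at h4
    linear_combination h4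
  exact h2 (by linear_combination h5)

theorem card_diag_F4 [Fintype F] : Nat.card (chevF4.diagonalSubgroup F) = (Nat.card F - 1) ^ 4 := by
  have h1 := Cfsg.Agent.S1035.result (F := F) (q := Fintype.card F) rfl (chevF4, 1) (by simp)
  have h2 : 1 * Nat.card (chevF4.diagonalSubgroup F) = (Fintype.card F - 1) ^ 4 := h1
  rw [one_mul] at h2
  rw [h2, Nat.card_eq_fintype_card]

theorem card_out_F4 [Fintype F] :
    Nat.card (Cfsg.Out ↥(chevF4.group F)) = Nat.card ↥(realised hF4 F) * Nat.card (F ≃+* F) := by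
  have h1 := card_out_mul hF4 F
  have h2 : Nat.card (Cfsg.Out ↥(chevF4.group F)) * (Nat.card F - 1) ^ 4 =
      Nat.card ↥(realised hF4 F) * ((Nat.card F - 1) ^ 4 * Nat.card (F ≃+* F)) := by
    rw [card_diag_F4] at h1
    exact h1
  have h3 : 0 < (Nat.card F - 1) ^ 4 := by
    have := Finite.one_lt_card (α := F)
    exact pow_pos (by omega) 4
  apply Nat.eq_of_mul_eq_mul_right h3
  rw [h2]
  ring

theorem realised_F4 {π : Equiv.Perm (Fin chevF4.rank)} (h : π ∈ realised hF4 F) : π = 1 ∨ π = flip4 := by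
  obtain ⟨φ, hφ⟩ := h
  apply perm4 π
  intro i j hij
  exact cartan_eq_zero_iff hφ hF4 hij

end F4

end Cfsg.Agent.H69.OutGF
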