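import Mathlib
import Cfsg.Agent.H69.OutCount
import Cfsg.Agent.Mrg.ParSys.Fam.D4
import Cfsg.Agent.CpAut.RgdTwStd
import Cfsg.Agent.Lib.FieldAutCard
set_option linter.all false

/-!
# The order of the outer automorphism group of `³D₄(q)`
-/

set_option autoImplicit false
set_option linter.unusedSectionVars false
set_option maxHeartbeats 400000

namespace Cfsg.Agent.H69.OutTwD4

open CoxeterSystem Cfsg.Agent.ChevalleyStructure.CoxeterGeom Cfsg.Agent.Tits.Roots Cfsg.Agent.Tits.Core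
  Cfsg.Agent.Tits.Exchange Cfsg.Agent.Nodes.Reps Cfsg.Agent.Nodes.BNOf Cfsg.Agent.Nodes.StabComb
  Cfsg.Agent.Nodes.Bruhat Cfsg.Agent.Nodes.OppDec Cfsg.Agent.Nodes.RGDTwGen Cfsg.Agent.Nodes.RGDChev
  Cfsg.Agent.Nodes.RGDFold Cfsg.Agent.Nodes.RGDFoldSL
open Cfsg.Agent.KFacts.RgdOpp Cfsg.Agent.KFacts.RgdAut Cfsg.Agent.KFacts.RgdDiag Cfsg.Agent.KFacts.RgdRigid
  Cfsg.Agent.KFacts.RgdField Cfsg.Agent.KFacts.RgdTau Cfsg.Agent.KFacts.RgdNodes
open Cfsg.Lie Cfsg.Agent.ChevalleyStructure Cfsg.Agent.ChevalleyStructure.Elts Cfsg.Agent.ChevStructure.FieldMap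
open Cfsg.Agent.ChevalleyStructure.SL2Hom (up lo)
open Cfsg.Agent.KFacts.TwDFour.Out
open Cfsg.Agent.Nodes.RGDTwD4 Cfsg.Agent.Nodes.RGDTwNode.D4
open Cfsg.Agent.ParSys.Fam.D4 (hf)
open Cfsg.Agent.CpAut.RgdTwStd
open Cfsg.Agent.H69.OutCount

universe u

/-! ### the standard field automorphisms -/

section Words

theorem hD4 : InList chevD4 := hp.inList

variable {K : Type u} [Field K] {q q' : ℕ}

theorem tw_le_iff (M : Subgroup (GL chevD4.Idx K)) :
    twistedD4 K q ≤ M ↔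
      (∀ t : K, t ^ q = t → ∀ r ∈ [14, 9], xG hD4 r t ∈ M) ∧
      (∀ t : K, ∀ rs ∈ [(18, 13, 12), (5, 10, 11)],
        xG hD4 rs.1 t * (xG hD4 rs.2.1 (t ^ q) * xG hD4 rs.2.2 (t ^ (q ^ 2))) ∈ M) := by
  have e1 : ∀ (r : ℕ) (t : K), xG hD4 r t = wordG hD4 [(r, t)] := by
    intro r t
    rw [wordG_cons, wordG_nil, mul_one]
  have e2 : ∀ (rs : ℕ × ℕ × ℕ) (t : K), xG hD4 rs.1 t * (xG hD4 rs.2.1 (t ^ q) * xG hD4 rs.2.2 (t ^ (q ^ 2))) =
      wordG hD4 [(rs.1, t), (rs.2.1, t ^ q), (rs.2.2, t ^ (q ^ 2))] := by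
    intro rs t
    rw [wordG_cons, wordG_cons, wordG_cons, wordG_nil, mul_one]
  constructor
  · intro h
    constructor
    · intro t ht r hr
      refine h (Subgroup.subset_closure ⟨[(r, t)], Or.inl ⟨t, ht, r, hr, rfl⟩, ?_⟩)
      rw [e1, coe_wordG]
    · intro t rs hrs
      refine h (Subgroup.subset_closure ⟨[(rs.1, t), (rs.2.1, t ^ q), (rs.2.2, t ^ (q ^ 2))],
        Or.inr ⟨t, rs, hrs, rfl⟩, ?_⟩)
      rw [e2, coe_wordG]
  · rintro ⟨h1, h2⟩
    refine (Subgroup.closure_le M).2 ?_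
    rintro g ⟨w, (⟨t, ht, r, hr, rfl⟩ | ⟨t, rs, hrs, rfl⟩), hg⟩
    · have e : g = xG hD4 r t := by
        apply Units.ext
        rw [hg, e1, coe_wordG]
      rw [e]
      exact h1 t ht r hr
    · have e : g = xG hD4 rs.1 t * (xG hD4 rs.2.1 (t ^ q) * xG hD4 rs.2.2 (t ^ (q ^ 2))) := by
        apply Units.ext
        rw [hg, e2, coe_wordG]
      rw [e]
      exact h2 t rs hrs

theorem single_mem {t : K} (ht : t ^ q = t) {r : ℕ} (hr : r ∈ [14, 9]) : xG hD4 r t ∈ twistedD4 K q :=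
  ((tw_le_iff _).1 le_rfl).1 t ht r hr

theorem triple_mem (t : K) {rs : ℕ × ℕ × ℕ} (hr : rs ∈ [(18, 13, 12), (5, 10, 11)]) :
    xG hD4 rs.1 t * (xG hD4 rs.2.1 (t ^ q) * xG hD4 rs.2.2 (t ^ (q ^ 2))) ∈ twistedD4 K q :=
  ((tw_le_iff _).1 le_rfl).2 t rs hr

theorem le_comap (τ : K ≃+* K) (q : ℕ) :
    twistedD4 K q ≤ (twistedD4 K q).comap (glEquiv chevD4 τ).toMonoidHom := by
  rw [tw_le_iff]
  refine ⟨fun t ht r hr => ?_, fun t rs hr => ?_⟩
  · show glEquiv chevD4 τ (xG hD4 r t) ∈ twistedD4 K q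
    rw [glE_xG]
    exact single_mem (by rw [← map_pow, ht]) hr
  · show glEquiv chevD4 τ (xG hD4 rs.1 t * (xG hD4 rs.2.1 (t ^ q) * xG hD4 rs.2.2 (t ^ (q ^ 2)))) ∈ twistedD4 K q
    rw [map_mul, map_mul, glE_xG, glE_xG, glE_xG, map_pow, map_pow]
    exact triple_mem (τ t) hr

theorem map_tw (τ : K ≃+* K) (q : ℕ) : (twistedD4 K q).map (glEquiv chevD4 τ).toMonoidHom = twistedD4 K q := by
  refine le_antisymm (Subgroup.map_le_iff_le_comap.2 (le_comap τ q)) fun g hg => ?_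
  refine ⟨glEquiv chevD4 τ⁻¹ g, le_comap τ⁻¹ q hg, ?_⟩
  show glEquiv chevD4 τ (glEquiv chevD4 τ⁻¹ g) = g
  rw [← glE_mul, mul_inv_cancel, glE_one]

end Words

section Std

variable {K : Type u} [Field K] [Fintype K] {q : ℕ} {φ : K →+* K} (hφ : ∀ x, φ x = x ^ q)
  (hK : Fintype.card K = q ^ 3) (τ : K ≃+* K)

include hφ in
theorem tau_phi (a : K) : τ (φ a) = φ (τ a) := by rw [hφ, hφ, map_pow]

variable (q) in
/-- the standard field automorphism -/
noncomputable def st : MulAut ↥(twistedD4 K q) := fldG τ (map_tw τ q)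

/-- the restriction of the field automorphism to the coordinate field of a node -/
noncomputable def rs (i : Fin 2) : KD φ i ≃+* KD φ i := res (KD φ i) τ (mem_Fx_iff (tau_phi hφ τ) _)

theorem st_up (i : Fin 2) (a : KD φ i) :
    st q τ (PhiD hφ hK i (up a)) = PhiD hφ hK i (up (rs hφ τ i a)) :=
  fldG_up (foldGrp hφ (D4Fixed.twisted_le_fix hK hφ)) (nodeOK i) (hf φ i) (tau_phi hφ τ)
    (map_tw τ q) a

theorem st_n (i : Fin 2) : st q τ (n hφ i) = n hφ i := fldG_nI (map_tw τ q) i _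

theorem st_T : Fix (st q τ) (T K q) := fix_T (map_tw τ q) hD4

variable {W : Type*} [Group W] (cs : CoxeterSystem CoxeterMatrix.G₂ W)

include cs in
theorem ntau_st (p : ℕ) [Fact p.Prime] [CharP K p] :
    NTau (T K q) (X φ q) (chD hφ hK) (st q τ) (rs hφ τ) :=
  ntau_std (Cfsg.Agent.Nodes.RGDTwD4.rgd cs hK hφ p) (mem_X hφ hK) (PhiD_wS hφ hK) (st_up hφ hK τ) (st_n hφ τ)
    (coordD hφ hK) (st_T τ)

include cs in
theorem dtau_st (p : ℕ) [Fact p.Prime] [CharP K p] : DTau hφ hK (st q τ) τ := by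
  have S := ntau_st hφ hK τ cs p
  exact ⟨S.diag, fun i t ht => congrArg Subtype.val (S.char i t ht)⟩

end Std

/-! ### the count -/

variable {K : Type u} [Field K] [Fintype K] {q : ℕ}

theorem card_T (hq : IsPrimePow q) (hK : Fintype.card K = q ^ 3) :
    Nat.card ↥(T K q) = (q ^ 3 - 1) * (q - 1) := by
  obtain ⟨φ, hφ⟩ := D4Fixed.exists_frob hq hK
  rw [mul_comm, ← D4H1.card_H1 hq hK hφ]
  exact Nat.card_congr (Subgroup.subgroupOfEquivOfLe inf_le_right).toEquiv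

theorem center_eq_bot (hq : IsPrimePow q) (hK : Fintype.card K = q ^ 3) :
    Subgroup.center ↥(twistedD4 K q) = ⊥ := by
  obtain ⟨h1, h2⟩ := Cfsg.Agent.S1071.result hq hK
  rcases Subgroup.Normal.eq_bot_or_eq_top (inferInstance : (Subgroup.center ↥(twistedD4 K q)).Normal) with h | h
  · exact h
  · exfalso
    apply h2
    refine ⟨⟨fun a b => ?_⟩⟩
    have h3 : a ∈ Subgroup.center ↥(twistedD4 K q) := by rw [h]; exact Subgroup.mem_top a
    exact (Subgroup.mem_center_iff.1 h3 b).symm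

/-- **`|Out(³D₄(q))| = |Aut K|`.** -/
theorem card_out (hq : IsPrimePow q) (hK : Fintype.card K = q ^ 3) (p : ℕ) [Fact p.Prime] [CharP K p] :
    Nat.card (Cfsg.Out ↥(twistedD4 K q)) = Nat.card (K ≃+* K) := by
  obtain ⟨φ, hφ⟩ := D4Fixed.exists_frob hq hK
  let cs : CoxeterSystem CoxeterMatrix.G₂ CoxeterMatrix.G₂.Group := CoxeterMatrix.G₂.toCoxeterSystem
  have hfin : Finite CoxeterMatrix.G₂.Group := finiteW cs
  have R := Cfsg.Agent.Nodes.RGDTwD4.rgd cs hK hφ p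
  have hG1 : RGD.Sup (X φ q) {x | IsRoot cs isCartan x} = ⊤ := G1_eq_top cs hK hφ
  have h1 := card_out_rel R hG1 (center_eq_bot hq hK) (fun β σ D => by
      apply perm_G2 σ
      intro h3
      have h4 := Diag.card_eq D 0
      rw [h3] at h4
      exact card_ne hφ hK hq.one_lt h4) (Γ := K ≃+* K) (Rel := DTau hφ hK)
    (fun β D => exists_dtau hφ hK cs p D) (fun β τ S => S.diag) (fun β τ τ' S S' => S.unique hφ hK S')
    (fun β τ β' τ' S S' => S.mul hφ hK S') (fun τ => ⟨st q τ, dtau_st hφ hK τ cs p⟩)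
  have hT := card_T hq hK
  -- the kernel
  have h2 : Nat.card {β : MulAut ↥(twistedD4 K q) // DTau hφ hK β 1} ≤ Nat.card ↥(T K q) := by
    refine le_trans (card_scalar_le R hG1 (coordD hφ hK) (Q := fun β => DTau hφ hK β 1) fun β S => ⟨S.diag, fun i => ?_⟩) ?_
    · have hS : NTau (T K q) (X φ q) (chD hφ hK) β 1 := ⟨S.diag, fun i t ht => Subtype.ext (S.char i t ht)⟩
      obtain ⟨c, hc, e⟩ := NTau.semi (coordD hφ hK) hS i
      exact ⟨c, hc, fun a => e a⟩
    · rw [hT, Fin.prod_univ_two, mul_comm]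
      have e1 : Nat.card (KD φ 1) = q ^ 3 := by
        rw [F3_eq_top hK hφ, ← hK, ← Nat.card_eq_fintype_card]
        exact Nat.card_congr Subfield.topEquiv.toEquiv
      have e0 : Nat.card (KD φ 0) - 1 = q - 1 := by
        rw [← D4H1.card_fixed hq.one_lt hK hφ, ← Nat.card_units]
        have key : ∀ b : (KD φ 0), φ (b : K) = b := fun b => (mem_Fx.1 b.2)
        refine Nat.card_congr
          { toFun := fun b => ⟨Units.map (KD φ 0).subtype.toMonoidHom b, key b⟩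
            invFun := fun b => Units.mk0 ⟨(b.1 : K), mem_Fx.2 b.2⟩ (fun h => b.1.ne_zero (congrArg Subtype.val h))
            left_inv := fun b => Units.ext rfl
            right_inv := fun b => Subtype.ext (Units.ext rfl) }
      rw [e0, e1]
  have h3 : Nat.card {β : MulAut ↥(twistedD4 K q) // DTau hφ hK β 1} = Nat.card ↥(T K q) := by
    apply le_antisymm h2
    have hinj : Function.Injective (fun t : ↥(T K q) =>
        (⟨MulAut.conj t.1, dtau_conj hφ hK cs p t.2⟩ : {β : MulAut ↥(twistedD4 K q) // DTau hφ hK β 1})) := by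
      intro s t hst
      have h4 : MulAut.conj s.1 = MulAut.conj t.1 := congrArg Subtype.val hst
      apply Subtype.ext
      have h5 : s.1⁻¹ * t.1 ∈ Subgroup.center ↥(twistedD4 K q) := by
        rw [Subgroup.mem_center_iff]
        intro y
        have h6 := DFunLike.congr_fun h4 y
        rw [MulAut.conj_apply, MulAut.conj_apply] at h6
        have h7 : y * (s.1⁻¹ * t.1) = s.1⁻¹ * (s.1 * y * s.1⁻¹) * t.1 := by group
        rw [h7, h6]; group
      rw [center_eq_bot hq hK, Subgroup.mem_bot] at h5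
      exact inv_mul_eq_one.1 h5
    exact Nat.card_le_card_of_injective _ hinj
  rw [h3] at h1
  exact Nat.eq_of_mul_eq_mul_right Nat.card_pos h1

end Cfsg.Agent.H69.OutTwD4
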