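import Mathlib
import Cfsg.Agent.LieRecognition.CoxForm
import Cfsg.Agent.LieRecognition.BNCox
import Cfsg.Agent.Nodes.TypeD
import Cfsg.Agent.FastGrp
import Cfsg.Agent.Prune
set_option linter.all false
prune_inst 0x7f00000000000000000000000000000000000000000000000000000000000000000000000000000000000000000000000000000000000000000000000000000000000000000000000000000000000000003fffffffffffffffffffffffffffbeffbdffffffff
open scoped Cfsg.Agent.FastGrp

/-!
# Twisted cosets of `2`-elements in Weyl groups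

`Cox2 M` : there are a Coxeter system of type `M`, with finite group, and an automorphism `φ` permuting the simple
reflections, such that all the twisted products `w φ(w) φ²(w) ...` (`2 ^ n` factors, `n` large) are trivial.

`not_cA`, `not_B`, `not_D`, `not_E6`, `not_E7`, `not_E8`, `not_F4`, `not_G2` : `Cox2 M` is false for the types
`A_n` (`n ≥ 2`), `B_n` (`n ≥ 3`), `D_n` (`n ≥ 4`), `E_6`, `E_7`, `E_8`, `F_4`, `G_2`.
-/

set_option autoImplicit false
set_option linter.unusedSimpArgs false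

namespace Cfsg.Agent.H69.CosetP

universe u v

variable {I : Type u} {M : CoxeterMatrix I}

/-- the data in the Weyl group given by a coset of automorphisms of `2`-power order -/
def Cox2 (M : CoxeterMatrix I) : Prop :=
  ∃ (W : Type v) (_ : Group W) (cs : CoxeterSystem M W) (φ : W ≃* W) (σ : Equiv.Perm I), Finite W ∧
    (∀ i, φ (cs.simple i) = cs.simple (σ i)) ∧ (∃ n : ℕ, σ ^ 2 ^ n = 1) ∧
      ∀ w : W, ∃ n : ℕ, (fun v => w * φ v)^[2 ^ n] 1 = 1

section

variable {W : Type v} [Group W] {cs : CoxeterSystem M W} {φ : W ≃* W} {σ : Equiv.Perm I}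

theorem pow_of_fixed {w : W} (hw : φ w = w) (h : ∃ n : ℕ, (fun v => w * φ v)^[2 ^ n] 1 = 1) :
    ∃ n : ℕ, w ^ 2 ^ n = 1 := by
  obtain ⟨n, hn⟩ := h
  have h1 : ∀ m : ℕ, (fun v => w * φ v)^[m] 1 = w ^ m := by
    intro m
    induction m with
    | zero => rw [pow_zero]; rfl
    | succ m ih =>
      rw [Function.iterate_succ_apply', ih]
      rw [map_pow, hw, pow_succ']
  exact ⟨n, by rw [← h1, hn]⟩

theorem pow_of_fixed_two {w : W} (hw : φ (φ w) = w) (h : ∃ n : ℕ, (fun v => w * φ v)^[2 ^ n] 1 = 1) :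
    ∃ n : ℕ, (w * φ w) ^ 2 ^ n = 1 := by
  obtain ⟨n, hn⟩ := h
  have h1 : ∀ m : ℕ, (fun v => w * φ v)^[2 * m] 1 = (w * φ w) ^ m := by
    intro m
    induction m with
    | zero => rw [pow_zero]; rfl
    | succ m ih =>
      have e : 2 * (m + 1) = (2 * m).succ.succ := by omega
      rw [e, Function.iterate_succ_apply', Function.iterate_succ_apply', ih]
      change w * φ (w * φ ((w * φ w) ^ m)) = _
      have e2 : φ (φ ((w * φ w) ^ m)) = (w * φ w) ^ m := by
        rw [map_pow, map_pow, map_mul, map_mul, hw]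
      rw [map_mul, e2, pow_succ', mul_assoc]
  refine ⟨n, ?_⟩
  rw [← h1, two_mul, Function.iterate_add_apply, hn, hn]

theorem not_three_of_pow [Finite W] {w : W} (h : ∃ n : ℕ, w ^ 2 ^ n = 1) : ¬ 3 ∣ orderOf w := by
  obtain ⟨n, hn⟩ := h
  intro h3
  have h4 := h3.trans (orderOf_dvd_of_pow_eq_one hn)
  have h5 := (Nat.Prime.dvd_of_dvd_pow Nat.prime_three h4)
  omega

variable (hφ : ∀ i, φ (cs.simple i) = cs.simple (σ i))
  (hw : ∀ w : W, ∃ n : ℕ, (fun v => w * φ v)^[2 ^ n] 1 = 1)

include hφ hw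

/-- no fixed bond of label divisible by three -/
theorem false_fixed [Finite W] [Finite I] {i j : I} (hi : σ i = i) (hj : σ j = j) (h3 : 3 ∣ M i j) : False := by
  classical
  have := Fintype.ofFinite I
  have h1 : φ (cs.simple i * cs.simple j) = cs.simple i * cs.simple j := by
    rw [map_mul, hφ, hφ, hi, hj]
  have h2 := not_three_of_pow (pow_of_fixed h1 (hw _))
  rw [LieRecognition.CoxForm.orderOf_eq cs i j] at h2
  exact h2 h3

/-- no bond of label divisible by three with exchanged ends -/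
theorem false_swapped [Finite W] [Finite I] {i j : I} (hi : σ i = j) (hj : σ j = i) (h3 : 3 ∣ M i j) : False := by
  classical
  have := Fintype.ofFinite I
  have h1 : φ (φ (cs.simple i)) = cs.simple i := by rw [hφ, hφ, hi, hj]
  have h2 := not_three_of_pow (pow_of_fixed_two h1 (hw _))
  rw [hφ, hi, LieRecognition.CoxForm.orderOf_eq cs i j] at h2
  exact h2 h3

/-- no fixed node with two exchanged neighbours -/
theorem false_fork [Finite W] [Finite I] {i j k : I} (hi : σ i = i) (hj : σ j = k) (hk : σ k = j) (hij : M i j = 3)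
    (hik : M i k = 3) (hjk : M j k = 2) : False := by
  classical
  have := Fintype.ofFinite I
  set a := cs.simple i with ha
  set b := cs.simple j with hb
  set c := cs.simple k with hc
  have haa : a * a = 1 := cs.simple_mul_simple_self i
  have hbb : b * b = 1 := cs.simple_mul_simple_self j
  have hcc : c * c = 1 := cs.simple_mul_simple_self k
  have h1 : φ (φ (b * a)) = b * a := by
    rw [map_mul, map_mul, ha, hb, hφ, hφ, hφ, hφ, hi, hi, hj, hk]
  have h2 := not_three_of_pow (pow_of_fixed_two h1 (hw _))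
  have h3 : φ (b * a) = c * a := by rw [map_mul, ha, hb, hφ, hφ, hi, hj]
  rw [h3] at h2
  -- the relations
  have e1 : a * c * a * c * a * c = 1 := by
    have := cs.simple_mul_simple_pow i k
    rw [hik] at this
    rw [← this, pow_succ, pow_two]
    simp only [mul_assoc]
    rfl
  have e2 : b * c = c * b := by
    have := cs.simple_mul_simple_pow j k
    rw [hjk, pow_two] at this
    have e3 : b * c * (b * c) = 1 := this
    calc b * c = b * c * (b * c) * (c * b) := by
          rw [show b * c * (b * c) * (c * b) = b * c * b * (c * c) * b by group, hcc, mul_one, mul_assoc, hbb, mul_one]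
      _ = c * b := by rw [e3, one_mul]
  have e4 : a * c * a = c * a * c := by
    calc a * c * a = a * c * a * c * a * c * (c * a * c) := by
          rw [show a * c * a * c * a * c * (c * a * c) = a * c * a * c * (a * (c * c) * a) * c by group, hcc, mul_one,
            haa, mul_one, show a * c * a * c * c = a * c * a * (c * c) by group, hcc, mul_one]
      _ = c * a * c := by rw [e1, one_mul]
  have e5 : b * a * (c * a) = c * (b * a) * c⁻¹ := by
    have hci : c⁻¹ = c := inv_eq_of_mul_eq_one_left hcc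
    rw [hci, show b * a * (c * a) = b * (a * c * a) by group, e4, show b * (c * a * c) = b * c * (a * c) by group, e2]
    group
  rw [e5, show c * (b * a) * c⁻¹ = MulAut.conj c (b * a) from rfl, MulEquiv.orderOf_eq] at h2
  have h4 := LieRecognition.CoxForm.orderOf_eq cs j i
  rw [h4, M.symmetric j i, hij] at h2
  exact h2 (dvd_refl 3)

omit hw in
theorem preserves [Finite W] [Finite I] (i j : I) : M (σ i) (σ j) = M i j := by
  classical
  have := Fintype.ofFinite I
  rw [← LieRecognition.CoxForm.orderOf_eq cs (σ i) (σ j), ← LieRecognition.CoxForm.orderOf_eq cs i j, ← hφ, ← hφ,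
    ← map_mul, MulEquiv.orderOf_eq]

end

/-! ### Paths -/

/-- an automorphism of a path is trivial or the reversal -/
theorem path_aut {n : ℕ} {M : CoxeterMatrix (Fin n)}
    (hM : ∀ i j : Fin n, i ≠ j → (M i j ≠ 2 ↔ (i : ℕ) + 1 = j ∨ (j : ℕ) + 1 = i)) {σ : Equiv.Perm (Fin n)}
    (hσ : ∀ i j, M (σ i) (σ j) = M i j) : (∀ i, σ i = i) ∨ ∀ i, σ i = Fin.rev i := by
  have hadj : ∀ i j : Fin n, ((i : ℕ) + 1 = j ∨ (j : ℕ) + 1 = i) →
      ((σ i : Fin n) : ℕ) + 1 = σ j ∨ ((σ j : Fin n) : ℕ) + 1 = σ i := by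
    intro i j hij
    have hne : i ≠ j := fun h => by rw [h] at hij; omega
    have h1 := (hM i j hne).2 hij
    rw [← hσ] at h1
    exact (hM _ _ (fun h => hne (σ.injective h))).1 h1
  have key : ∀ τ : Equiv.Perm (Fin n), (∀ i j : Fin n, ((i : ℕ) + 1 = j ∨ (j : ℕ) + 1 = i) →
      ((τ i : Fin n) : ℕ) + 1 = τ j ∨ ((τ j : Fin n) : ℕ) + 1 = τ i) → (∀ h : 0 < n, ((τ ⟨0, h⟩ : Fin n) : ℕ) = 0) →
      ∀ i, τ i = i := by
    intro τ hτ h0
    have h1 : ∀ m : ℕ, ∀ hm : m < n, ∀ k : ℕ, ∀ hk : k ≤ m, ((τ ⟨k, by omega⟩ : Fin n) : ℕ) = k := by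
      intro m
      induction m with
      | zero =>
        intro hm k hk
        obtain rfl : k = 0 := by omega
        exact h0 hm
      | succ m ih =>
        intro hm k hk
        rcases Nat.lt_or_ge k (m + 1) with hlt | hge
        · exact ih (by omega) k (by omega)
        obtain rfl : k = m + 1 := by omega
        have h2 := hτ ⟨m, by omega⟩ ⟨m + 1, hm⟩ (Or.inl rfl)
        rw [ih (by omega) m le_rfl] at h2
        rcases h2 with h2 | h2
        · exact h2.symm
        · -- the value `m - 1` is already taken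
          have h3 := ih (by omega) (m - 1) (by omega)
          have h4 : (τ ⟨m - 1, by omega⟩ : Fin n) = τ ⟨m + 1, hm⟩ := Fin.ext (by rw [h3]; omega)
          have h5 := congrArg Fin.val (τ.injective h4)
          simp only at h5
          omega
    intro i
    exact Fin.ext (h1 i i.2 i le_rfl)
  rcases Nat.eq_zero_or_pos n with hn | hn
  · left
    intro i
    exact absurd i.2 (by omega)
  -- the image of the end
  have hend : ((σ ⟨0, hn⟩ : Fin n) : ℕ) = 0 ∨ ((σ ⟨0, hn⟩ : Fin n) : ℕ) = n - 1 := by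
    by_contra hcon
    push Not at hcon
    set c := (σ ⟨0, hn⟩ : Fin n) with hc
    have hcn := c.2
    have hs : ∀ x : Fin n, ((x : ℕ) + 1 = c ∨ (c : ℕ) + 1 = x) → σ.symm x = ⟨1, by omega⟩ := by
      intro x hx
      have hne : x ≠ c := fun h => by rw [h] at hx; omega
      have h1 := (hM x c hne).2 hx
      have h2 := hσ (σ.symm x) ⟨0, hn⟩
      rw [σ.apply_symm_apply, ← hc] at h2
      rw [h2] at h1
      have hne' : σ.symm x ≠ ⟨0, hn⟩ := fun h => hne (by rw [hc, ← h, σ.apply_symm_apply])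
      have h3 := (hM _ _ hne').1 h1
      apply Fin.ext
      simp only at h3 ⊢
      omega
    have h1 := hs ⟨(c : ℕ) - 1, by omega⟩ (Or.inl (by simp only; omega))
    have h2 := hs ⟨(c : ℕ) + 1, by omega⟩ (Or.inr rfl)
    have h3 := congrArg Fin.val (σ.symm.injective (h1.trans h2.symm))
    simp only at h3
    omega
  rcases hend with hend | hend
  · left
    exact key σ hadj fun _ => hend
  · right
    have h1 := key (σ.trans Fin.revPerm) (fun i j hij => by
      have h2 := hadj i j hij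
      simp only [Equiv.trans_apply, Fin.revPerm_apply, Fin.val_rev]
      have h3 := (σ i).2
      have h4 := (σ j).2
      omega) (fun h => by
      simp only [Equiv.trans_apply, Fin.revPerm_apply, Fin.val_rev]
      omega)
    intro i
    have h2 := h1 i
    simp only [Equiv.trans_apply, Fin.revPerm_apply] at h2
    rw [← Fin.rev_rev (σ i), h2]

theorem not_cA {n : ℕ} (hn : 2 ≤ n) : ¬ Cox2.{0, v} (LieRecognition.BNCox.cA n) := by
  rintro ⟨W, _, cs, φ, σ, hW, hφ, -, hw⟩
  have hval : ∀ i j : Fin n, (LieRecognition.BNCox.cA n) i j = LieRecognition.CoxClass.mA (i : ℕ) (j : ℕ) :=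
    fun _ _ => rfl
  have hM : ∀ i j : Fin n, i ≠ j → ((LieRecognition.BNCox.cA n) i j ≠ 2 ↔ (i : ℕ) + 1 = j ∨ (j : ℕ) + 1 = i) := by
    intro i j hij
    have hij' : (i : ℕ) ≠ j := fun e => hij (Fin.ext e)
    rw [hval]
    unfold LieRecognition.CoxClass.mA
    split_ifs <;> omega
  have h3 : ∀ i j : Fin n, ((i : ℕ) + 1 = j ∨ (j : ℕ) + 1 = i) → (LieRecognition.BNCox.cA n) i j = 3 := by
    intro i j hij
    rw [hval]
    unfold LieRecognition.CoxClass.mA
    split_ifs <;> omega
  rcases path_aut hM (preserves hφ) with h | h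
  · exact false_fixed hφ hw (h ⟨0, by omega⟩) (h ⟨1, by omega⟩) (by rw [h3 _ _ (Or.inl rfl)])
  · rcases Nat.even_or_odd' n with ⟨m, hm | hm⟩
    · refine false_swapped hφ hw (i := ⟨m - 1, by omega⟩) (j := ⟨m, by omega⟩) ?_ ?_ ?_
      · rw [h]; apply Fin.ext; rw [Fin.val_rev]; simp only; omega
      · rw [h]; apply Fin.ext; rw [Fin.val_rev]; simp only; omega
      · rw [h3 _ _ (Or.inl (by simp only; omega))]
    · refine false_fork hφ hw (i := ⟨m, by omega⟩) (j := ⟨m - 1, by omega⟩) (k := ⟨m + 1, by omega⟩) ?_ ?_ ?_ ?_ ?_ ?_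
      · rw [h]; apply Fin.ext; rw [Fin.val_rev]; simp only; omega
      · rw [h]; apply Fin.ext; rw [Fin.val_rev]; simp only; omega
      · rw [h]; apply Fin.ext; rw [Fin.val_rev]; simp only; omega
      · exact h3 _ _ (Or.inr (by simp only; omega))
      · exact h3 _ _ (Or.inl rfl)
      · by_contra hne
        have := (hM _ _ (fun e => by have := congrArg Fin.val e; simp only at this; omega)).1 hne
        simp only at this
        omega

theorem B_apply {n : ℕ} (i j : Fin n) : (CoxeterMatrix.B n) i j = if i = j then 1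
    else (if (i : ℕ) = n - 1 ∧ (j : ℕ) = n - 2 ∨ (j : ℕ) = n - 1 ∧ (i : ℕ) = n - 2 then 4
      else (if (j : ℕ) + 1 = i ∨ (i : ℕ) + 1 = j then 3 else 2)) := rfl

theorem not_B {n : ℕ} (hn : 3 ≤ n) : ¬ Cox2.{0, v} (CoxeterMatrix.B n) := by
  rintro ⟨W, _, cs, φ, σ, hW, hφ, -, hw⟩
  have hM : ∀ i j : Fin n, i ≠ j → ((CoxeterMatrix.B n) i j ≠ 2 ↔ (i : ℕ) + 1 = j ∨ (j : ℕ) + 1 = i) := by
    intro i j hij
    have hij' : (i : ℕ) ≠ j := fun e => hij (Fin.ext e)
    have hi := i.2
    have hj := j.2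
    rw [B_apply, if_neg hij]
    split_ifs

    all_goals omega
  have h3 : ∀ i j : Fin n, (i : ℕ) + 1 = j → (j : ℕ) + 1 < n → (CoxeterMatrix.B n) i j = 3 := by
    intro i j hij hj
    rw [B_apply, if_neg (fun e => by rw [e] at hij; omega)]
    split_ifs <;> omega
  have h4 : ∀ i j : Fin n, (i : ℕ) + 1 = n → (j : ℕ) + 2 = n → (CoxeterMatrix.B n) i j = 4 := by
    intro i j hi hj
    rw [B_apply, if_neg (fun e => by rw [e] at hi; omega)]
    split_ifs <;> omega
  have h01 := h3 ⟨0, by omega⟩ ⟨1, by omega⟩ rfl (by simp only; omega)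
  rcases path_aut hM (preserves hφ) with h | h
  · exact false_fixed hφ hw (h ⟨0, by omega⟩) (h ⟨1, by omega⟩) (by rw [h01])
  · have h1 := preserves hφ (⟨0, by omega⟩ : Fin n) ⟨1, by omega⟩
    rw [h, h, h01, h4 _ _ (by rw [Fin.val_rev]; simp only; omega) (by rw [Fin.val_rev]; simp only; omega)] at h1
    omega

/-! ### The branch node -/

theorem false_branch {I : Type u} {M : CoxeterMatrix I} {W : Type v} [Group W] {cs : CoxeterSystem M W} {φ : W ≃* W}
    {σ : Equiv.Perm I} [Fintype I] [DecidableEq I] [Finite W] (hφ : ∀ i, φ (cs.simple i) = cs.simple (σ i))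
    (hσ : ∃ n : ℕ, σ ^ 2 ^ n = 1) (hw : ∀ w : W, ∃ n : ℕ, (fun v => w * φ v)^[2 ^ n] 1 = 1) {b x y z : I}
    (hxb : x ≠ b) (hyb : y ≠ b) (hzb : z ≠ b) (hxy : x ≠ y) (hxz : x ≠ z) (hyz : y ≠ z) (hx : M b x = 3)
    (hy : M b y = 3) (hz : M b z = 3) (hnb : ∀ j, j ≠ b → M b j ≠ 2 → j = x ∨ j = y ∨ j = z)
    (huniq : ∀ c, c ≠ b → (Finset.univ.filter fun j => j ≠ c ∧ M c j ≠ 2).card ≤ 2) : False := by
  have hp := preserves hφ
  have hb : σ b = b := by
    by_contra hne
    have h1 := huniq _ hne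
    have h2 : ({σ x, σ y, σ z} : Finset I) ⊆ Finset.univ.filter fun j => j ≠ σ b ∧ M (σ b) j ≠ 2 := by
      intro j hj
      rw [Finset.mem_filter]
      simp only [Finset.mem_insert, Finset.mem_singleton] at hj
      refine ⟨Finset.mem_univ _, ?_⟩
      rcases hj with rfl | rfl | rfl
      · exact ⟨fun e => hxb (σ.injective e), by rw [hp, hx]; decide⟩
      · exact ⟨fun e => hyb (σ.injective e), by rw [hp, hy]; decide⟩
      · exact ⟨fun e => hzb (σ.injective e), by rw [hp, hz]; decide⟩
    have h3 : ({σ x, σ y, σ z} : Finset I).card = 3 :=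
      Finset.card_eq_three.2 ⟨_, _, _, fun e => hxy (σ.injective e), fun e => hxz (σ.injective e),
        fun e => hyz (σ.injective e), rfl⟩
    have h4 := Finset.card_le_card h2
    omega
  have hmem : ∀ t, t ≠ b → M b t = 3 → σ t = x ∨ σ t = y ∨ σ t = z := by
    intro t ht ht3
    refine hnb _ (fun e => ht (σ.injective (e.trans hb.symm))) ?_
    have h1 := hp b t
    rw [hb, ht3] at h1
    rw [h1]
    decide
  obtain ⟨n, hn⟩ := hσ
  have hper : ∀ t, σ (σ (σ t)) = t → σ t = t := by
    intro t ht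
    have h1 : Function.IsPeriodicPt σ 3 t := ht
    have h2 : Function.IsPeriodicPt σ (2 ^ n) t := by
      change σ^[2 ^ n] t = t
      rw [← Equiv.Perm.coe_pow, hn]
      rfl
    have h3 := h1.gcd h2
    rw [Nat.Coprime.gcd_eq_one (Nat.Coprime.pow_right n (by decide : Nat.Coprime 3 2))] at h3
    exact h3
  have key : ∀ t, t ≠ b → M b t = 3 → σ t ≠ t := by
    intro t _ ht3 hfix
    exact false_fixed hφ hw hb hfix (by rw [ht3])
  have kx := key x hxb hx
  have ky := key y hyb hy
  have kz := key z hzb hz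
  rcases hmem x hxb hx with h1 | h1 | h1
  · exact kx h1
  · rcases hmem y hyb hy with h2 | h2 | h2
    · rcases hmem z hzb hz with h3 | h3 | h3
      · exact hyz (σ.injective (h2.trans h3.symm))
      · exact hxz (σ.injective (h1.trans h3.symm))
      · exact kz h3
    · exact ky h2
    · rcases hmem z hzb hz with h3 | h3 | h3
      · exact kx (hper x (by rw [h1, h2, h3]))
      · exact hxz (σ.injective (h1.trans h3.symm))
      · exact kz h3
  · rcases hmem z hzb hz with h3 | h3 | h3
    · rcases hmem y hyb hy with h2 | h2 | h2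
      · exact hyz (σ.injective (h2.trans h3.symm))
      · exact ky h2
      · exact hxy (σ.injective (h1.trans h2.symm))
    · rcases hmem y hyb hy with h2 | h2 | h2
      · exact kx (hper x (by rw [h1, h3, h2]))
      · exact ky h2
      · exact hxy (σ.injective (h1.trans h2.symm))
    · exact kz h3

theorem not_D {n : ℕ} (hn : 2 ≤ n) : ¬ Cox2.{0, v} (Nodes.TypeD.M n) := by
  rintro ⟨W, _, cs, φ, σ, hW, hφ, hσ, hw⟩
  have hadj : ∀ i j : Fin (n + 2), i ≠ j → (Nodes.TypeD.M n i j ≠ 2 ↔ Nodes.TypeD.Adj i j ∨ Nodes.TypeD.Adj j i) := by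
    intro i j hij
    rw [Nodes.TypeD.M_apply, if_neg hij]
    split_ifs with h <;> simp [h]
  have h3 : ∀ i j : Fin (n + 2), i ≠ j → Nodes.TypeD.Adj i j ∨ Nodes.TypeD.Adj j i → Nodes.TypeD.M n i j = 3 := by
    intro i j hij h
    rw [Nodes.TypeD.M_apply, if_neg hij, if_pos h]
  refine false_branch hφ hσ hw (b := ⟨n - 1, by omega⟩) (x := ⟨n - 2, by omega⟩) (y := ⟨n, by omega⟩)
    (z := ⟨n + 1, by omega⟩) ?_ ?_ ?_ ?_ ?_ ?_ ?_ ?_ ?_ ?_ ?_
  · simp only [ne_eq, Fin.ext_iff]; omega
  · simp only [ne_eq, Fin.ext_iff]; omega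
  · simp only [ne_eq, Fin.ext_iff]; omega
  · simp only [ne_eq, Fin.ext_iff]; omega
  · simp only [ne_eq, Fin.ext_iff]; omega
  · simp only [ne_eq, Fin.ext_iff]; omega
  · refine h3 _ _ (by simp only [ne_eq, Fin.ext_iff]; omega) ?_
    simp only [Nodes.TypeD.Adj, lt_self_iff_false, false_and, and_true, true_and, or_false, false_or]
    omega
  · refine h3 _ _ (by simp only [ne_eq, Fin.ext_iff]; omega) ?_
    simp only [Nodes.TypeD.Adj, lt_self_iff_false, false_and, and_true, true_and, or_false, false_or]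
    omega
  · refine h3 _ _ (by simp only [ne_eq, Fin.ext_iff]; omega) ?_
    simp only [Nodes.TypeD.Adj, lt_self_iff_false, false_and, and_true, true_and, or_false, false_or]
    omega
  · intro j hj h2
    have h4 := (hadj _ _ (Ne.symm hj)).1 h2
    simp only [Nodes.TypeD.Adj, Fin.ext_iff] at h4 ⊢
    omega
  · intro c hc
    have hc' : (c : ℕ) ≠ n - 1 := fun e => hc (Fin.ext e)
    have hc2 := c.2
    -- at most two neighbours
    have hsub : (Finset.univ.filter fun j => j ≠ c ∧ Nodes.TypeD.M n c j ≠ 2) ⊆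
        ({⟨c - 1, by omega⟩, if h : (c : ℕ) + 1 < n + 1 then ⟨c + 1, by omega⟩ else ⟨n - 1, by omega⟩} :
          Finset (Fin (n + 2))) := by
      intro j hj
      rw [Finset.mem_filter] at hj
      have h4 := (hadj _ _ (Ne.symm hj.2.1)).1 hj.2.2
      rw [Finset.mem_insert, Finset.mem_singleton]
      simp only [Nodes.TypeD.Adj] at h4
      split_ifs with h
      · simp only [Fin.ext_iff]
        omega
      · simp only [Fin.ext_iff]
        omega
    refine (Finset.card_le_card hsub).trans ?_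
    exact Finset.card_le_two

theorem not_E6 : ¬ Cox2.{0, v} CoxeterMatrix.E₆ := by
  rintro ⟨W, _, cs, φ, σ, hW, hφ, hσ, hw⟩
  exact false_branch hφ hσ hw (b := 3) (x := 1) (y := 2) (z := 4) (by decide) (by decide) (by decide) (by decide)
    (by decide) (by decide) (by decide) (by decide) (by decide) (by decide) (by decide)

theorem not_E7 : ¬ Cox2.{0, v} CoxeterMatrix.E₇ := by
  rintro ⟨W, _, cs, φ, σ, hW, hφ, hσ, hw⟩
  exact false_branch hφ hσ hw (b := 3) (x := 1) (y := 2) (z := 4) (by decide) (by decide) (by decide) (by decide)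
    (by decide) (by decide) (by decide) (by decide) (by decide) (by decide) (by decide)

theorem not_E8 : ¬ Cox2.{0, v} CoxeterMatrix.E₈ := by
  rintro ⟨W, _, cs, φ, σ, hW, hφ, hσ, hw⟩
  exact false_branch hφ hσ hw (b := 3) (x := 1) (y := 2) (z := 4) (by decide) (by decide) (by decide) (by decide)
    (by decide) (by decide) (by decide) (by decide) (by decide) (by decide) (by decide)

theorem not_F4 : ¬ Cox2.{0, v} CoxeterMatrix.F₄ := by
  rintro ⟨W, _, cs, φ, σ, hW, hφ, hσ, hw⟩
  have hM : ∀ i j : Fin 4, i ≠ j → (CoxeterMatrix.F₄ i j ≠ 2 ↔ (i : ℕ) + 1 = j ∨ (j : ℕ) + 1 = i) := by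
    intro i j
    fin_cases i <;> fin_cases j <;> simp [CoxeterMatrix.F₄]
  rcases path_aut hM (preserves hφ) with h | h
  · exact false_fixed hφ hw (h 0) (h 1) (by decide)
  · -- the reversal: map onto the symmetric group of degree three
    let f : Fin 4 → Equiv.Perm (Fin 3) := ![Equiv.swap 0 1, Equiv.swap 1 2, 1, 1]
    have hf : CoxeterMatrix.IsLiftable CoxeterMatrix.F₄ f := by
      unfold CoxeterMatrix.IsLiftable
      decide
    let g : W →* Equiv.Perm (Fin 3) := cs.lift ⟨f, hf⟩
    have hg : ∀ i, g (cs.simple i) = f i := fun i => cs.lift_apply_simple hf i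
    have e0 : σ 0 = 3 := h 0
    have e1 : σ 1 = 2 := h 1
    have e2 : σ 2 = 1 := h 2
    have e3 : σ 3 = 0 := h 3
    have h1 : φ (φ (cs.simple 0 * cs.simple 1)) = cs.simple 0 * cs.simple 1 := by
      rw [map_mul, map_mul, hφ, hφ, hφ, hφ, e0, e1, e2, e3]
    obtain ⟨n, hn⟩ := pow_of_fixed_two h1 (hw _)
    rw [map_mul, hφ, hφ, e0, e1] at hn
    have h2 := congrArg g hn
    rw [map_pow, map_mul, map_mul, map_mul, hg, hg, hg, hg, map_one] at h2
    have h3 : orderOf (f 0 * f 1 * (f 3 * f 2)) = 3 := by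
      refine orderOf_eq_prime ?_ ?_ <;> decide
    have h4 := orderOf_dvd_of_pow_eq_one h2
    rw [h3] at h4
    have h5 := Nat.Prime.dvd_of_dvd_pow Nat.prime_three h4
    omega

theorem perm_two (σ : Equiv.Perm (Fin 2)) : (σ 0 = 0 ∧ σ 1 = 1) ∨ (σ 0 = 1 ∧ σ 1 = 0) := by
  revert σ; decide

theorem not_G2 : ¬ Cox2.{0, v} CoxeterMatrix.G₂ := by
  rintro ⟨W, _, cs, φ, σ, hW, hφ, hσ, hw⟩
  rcases perm_two σ with ⟨h0, h1⟩ | ⟨h0, h1⟩
  · exact false_fixed hφ hw h0 h1 (by decide)
  · exact false_swapped hφ hw h0 h1 (by decide)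

end Cfsg.Agent.H69.CosetP

private theorem dce_df4b9f4f8143 : _root_.True := by
  try have : _root_.True := by simp only [_root_.Cfsg.Agent.Nodes.TypeD.Adj.eq_1]
  try have : _root_.True := by simp only [_root_.CoxeterMatrix.F₄.eq_1]
  try have : _root_.True := by simp only [_root_.CoxeterMatrix.mk.congr_simp]
  exact _root_.True.intro
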